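import Mathlib.CategoryTheory.Monoidal.Cartesian.Grp
import Mathlib.CategoryTheory.Monoidal.Cartesian.CommGrp_

/-!
# Products and quotients of homomorphisms into a commutative group object
-/

set_option autoImplicit false

universe v u

open CategoryTheory CategoryTheory.Limits MonObj MonoidalCategory CartesianMonoidalCategory

namespace K719.GrpHom

variable {C : Type u} [Category.{v} C] [CartesianMonoidalCategory C]

/-- A morphism multiplicative on points is a homomorphism (group objects: unit is automatic). -/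
theorem isMonHom_of_mul {X Y : C} [GrpObj X] [GrpObj Y] (f : X ⟶ Y)
    (hmul : ∀ (T : C) (x y : T ⟶ X), (x * y) ≫ f = (x ≫ f) * (y ≫ f)) : IsMonHom f where
  one_hom := by
    have h := hmul (𝟙_ C) 1 1
    rw [_root_.one_mul] at h
    have h2 : (1 : 𝟙_ C ⟶ X) ≫ f = 1 := by
      have := congrArg (· * ((1 : 𝟙_ C ⟶ X) ≫ f)⁻¹) h
      simpa using this.symm
    rw [Hom.one_def, Hom.one_def, toUnit_unique (toUnit (𝟙_ C)) (𝟙 _), Category.id_comp, Category.id_comp] at h2
    exact h2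
  mul_hom := by
    have h := hmul _ (fst X X) (snd X X)
    rw [Hom.mul_def, Hom.mul_def, lift_fst_snd, Category.id_comp, lift_fst_comp_snd_comp] at h
    exact h

theorem isMonHom_one {X Y : C} [GrpObj X] [GrpObj Y] : IsMonHom (1 : X ⟶ Y) :=
  isMonHom_of_mul _ fun T x y => by
    rw [MonObj.comp_one, MonObj.comp_one, MonObj.comp_one, _root_.mul_one]

section Comm

variable [BraidedCategory C]

theorem isMonHom_mul {X Y : C} [GrpObj X] [GrpObj Y] [IsCommMonObj Y] (f g : X ⟶ Y) [IsMonHom f] [IsMonHom g] :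
    IsMonHom (f * g) :=
  isMonHom_of_mul _ fun T x y => by
    rw [MonObj.comp_mul, MonObj.comp_mul, MonObj.comp_mul, MonObj.mul_comp, MonObj.mul_comp]
    exact mul_mul_mul_comm _ _ _ _

theorem isMonHom_div {X Y : C} [GrpObj X] [GrpObj Y] [IsCommMonObj Y] (f g : X ⟶ Y) [IsMonHom f] [IsMonHom g] :
    IsMonHom (f / g) :=
  isMonHom_of_mul _ fun T x y => by
    rw [GrpObj.comp_div, GrpObj.comp_div, GrpObj.comp_div, MonObj.mul_comp, MonObj.mul_comp]
    exact mul_div_mul_comm _ _ _ _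

theorem isMonHom_pow {X Y : C} [GrpObj X] [GrpObj Y] [IsCommMonObj Y] (f : X ⟶ Y) [IsMonHom f] (n : ℕ) :
    IsMonHom (f ^ n) :=
  isMonHom_of_mul _ fun T x y => by
    rw [MonObj.comp_pow, MonObj.comp_pow, MonObj.comp_pow, MonObj.mul_comp]
    exact mul_pow _ _ _

end Comm

/-- Power of a composite. -/
theorem comp_pow_id {X Y : C} [GrpObj X] [GrpObj Y] (f : X ⟶ Y) [IsMonHom f] (n : ℕ) :
    ((𝟙 X) ^ n) ≫ f = f ^ n := by
  rw [MonObj.pow_comp, Category.id_comp]

theorem comp_pow_id' {X Y : C} [GrpObj X] [GrpObj Y] (f : X ⟶ Y) (n : ℕ) :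
    f ≫ ((𝟙 Y) ^ n) = f ^ n := by
  rw [MonObj.comp_pow, Category.comp_id]

theorem pow_eq_one_of_source {X Y : C} [GrpObj X] [GrpObj Y] (f : X ⟶ Y) [IsMonHom f] {n : ℕ}
    (h : (𝟙 X) ^ n = 1) : f ^ n = 1 := by
  rw [← comp_pow_id, h, MonObj.one_comp]

theorem pow_eq_one_of_target {X Y : C} [GrpObj X] [GrpObj Y] (f : X ⟶ Y) {n : ℕ}
    (h : (𝟙 Y) ^ n = 1) : f ^ n = 1 := by
  rw [← comp_pow_id', h, MonObj.comp_one]

end K719.GrpHom
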