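import Groth.Agent.WittGrp.K718.Pts
import Groth.Agent.Sga3B.GaPts

/-!
# The Witt group of length one is the additive group
-/

set_option autoImplicit false

universe u

open CategoryTheory CategoryTheory.Limits AlgebraicGeometry Opposite MonObj MonoidalCategory CartesianMonoidalCategory

namespace K719.W1

open WittGrp K718.Pts Groth.Agent.Sga3B.GaPts

variable (p : ℕ) [hp : Fact p.Prime]

section RingLevel

variable {n : ℕ} {R : Type*} [CommRing R]

/-- The zeroth component is additive. -/
theorem coeff_zero_add (x y : TruncatedWittVector p (n + 1) R) :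
    (x + y).coeff 0 = x.coeff 0 + y.coeff 0 := by
  obtain ⟨X, rfl⟩ := WittVector.truncate_surjective p (n + 1) R x
  obtain ⟨Y, rfl⟩ := WittVector.truncate_surjective p (n + 1) R y
  rw [← map_add, WittVector.coeff_truncate, WittVector.coeff_truncate, WittVector.coeff_truncate]
  exact WittVector.add_coeff_zero X Y

/-- The zeroth component as an additive map. -/
noncomputable def coeffZero : TruncatedWittVector p (n + 1) R →+ R where
  toFun x := x.coeff 0
  map_zero' := TruncatedWittVector.coeff_zero _ _ _ _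
  map_add' := coeff_zero_add p

@[simp]
theorem coeffZero_apply (x : TruncatedWittVector p (n + 1) R) : coeffZero p x = x.coeff 0 := rfl

/-- Witt vectors of length one are the ring itself, additively. -/
noncomputable def oneEquiv : TruncatedWittVector p 1 R ≃+ R where
  toFun x := x.coeff 0
  invFun a := TruncatedWittVector.mk p fun _ => a
  left_inv x := TruncatedWittVector.ext fun i => by
    rw [TruncatedWittVector.coeff_mk, Subsingleton.elim i 0]
  right_inv a := TruncatedWittVector.coeff_mk _ _
  map_add' := coeff_zero_add p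

@[simp]
theorem oneEquiv_apply (x : TruncatedWittVector p 1 R) : oneEquiv p x = x.coeff 0 := rfl

@[simp]
theorem coeff_oneEquiv_symm (a : R) (i : Fin 1) : ((oneEquiv p).symm a).coeff i = a :=
  TruncatedWittVector.coeff_mk _ _

theorem oneEquiv_truncMap {R' : Type*} [CommRing R'] (f : R →+* R') (x : TruncatedWittVector p 1 R) :
    oneEquiv p (truncMap p 1 f x) = f (oneEquiv p x) := by
  rw [oneEquiv_apply, coeff_truncMap, oneEquiv_apply]

end RingLevel

section SchemeLevel

variable {S : Scheme.{u}}

/-- The function of a point of `W_1`. -/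
noncomputable def fn {T : Over S} (x : T ⟶ W p 1 S) : Γ(T.left, ⊤) := oneEquiv p (pts p T (Additive.ofMul x))

theorem fn_eq {T : Over S} (x : T ⟶ W p 1 S) : fn p x = x.left.appTop (coord p (0 : Fin 1)) := by
  rw [fn, oneEquiv_apply, coeff_pts]

theorem fn_injective {T : Over S} : Function.Injective (fn p : (T ⟶ W p 1 S) → _) :=
  fun _ _ h => pts_ext p ((oneEquiv p).injective h)

theorem fn_mul {T : Over S} (x y : T ⟶ W p 1 S) : fn p (x * y) = fn p x + fn p y := by
  rw [fn, pts_mul, map_add]; rfl

theorem fn_one {T : Over S} : fn p (1 : T ⟶ W p 1 S) = 0 := by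
  rw [fn, pts_one, map_zero]

theorem fn_comp {T T' : Over S} (g : T' ⟶ T) (x : T ⟶ W p 1 S) : fn p (g ≫ x) = g.left.appTop (fn p x) := by
  rw [fn, pts_comp, oneEquiv_truncMap]
  rfl

/-- The point of `W_1` given by a function. -/
noncomputable def pt (T : Over S) (a : Γ(T.left, ⊤)) : T ⟶ W p 1 S := ofVec p T ((oneEquiv p).symm a)

@[simp]
theorem fn_pt (T : Over S) (a : Γ(T.left, ⊤)) : fn p (pt p T a) = a := by
  rw [fn, pt, pts_ofVec, AddEquiv.apply_symm_apply]

@[simp]
theorem pt_fn (T : Over S) (x : T ⟶ W p 1 S) : pt p T (fn p x) = x := fn_injective p (fn_pt p T _)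

theorem comp_pt {T T' : Over S} (g : T' ⟶ T) (a : Γ(T.left, ⊤)) : g ≫ pt p T a = pt p T' (g.left.appTop a) :=
  fn_injective p (by rw [fn_comp, fn_pt, fn_pt])

variable (S)

/-- `W_1 ≅ G_a`. -/
noncomputable def isoGa : W p 1 S ≅ Red.Ga S where
  hom := gaPt (W p 1 S) (fn p (𝟙 _))
  inv := pt p (Red.Ga S) (Red.gaFn (𝟙 _))
  hom_inv_id := by
    rw [comp_pt, ← gaFn_comp, Category.comp_id, gaFn_gaPt, pt_fn]
  inv_hom_id := by
    rw [comp_gaPt, ← fn_comp, Category.comp_id, fn_pt, gaPt_gaFn]

variable {S}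

theorem gaFn_comp_isoGa {T : Over S} (x : T ⟶ W p 1 S) : Red.gaFn (x ≫ (isoGa p S).hom) = fn p x := by
  change Red.gaFn (x ≫ gaPt _ _) = _
  rw [comp_gaPt, gaFn_gaPt, ← fn_comp, Category.comp_id]

theorem fn_comp_isoGa_inv {T : Over S} (x : T ⟶ Red.Ga S) : fn p (x ≫ (isoGa p S).inv) = Red.gaFn x := by
  rw [← gaFn_comp_isoGa, Category.assoc, Iso.inv_hom_id, Category.comp_id]

instance isMonHom_isoGa : IsMonHom (isoGa p S).hom := by
  refine isMonHom_of_comp_mul _ ?_ fun T x y => ?_
  · apply gaFn_injective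
    rw [gaFn_comp_isoGa, fn_one, gaFn_one]
  · apply gaFn_injective
    rw [gaFn_comp_isoGa, gaFn_mul, fn_mul, gaFn_comp_isoGa, gaFn_comp_isoGa]

instance isMonHom_isoGa_inv : IsMonHom (isoGa p S).inv := inferInstance

end SchemeLevel

end K719.W1
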